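import Groth.Agent.HensH0.Core
import Groth.Agent.EtPtsLib.Agree
import Groth.Agent.EtPtsLib.GermEq
import Groth.Agent.EtPtsLib.IntegralUI

/-!
# Where pulled back sections agree

For `f : X ⟶ S` and a sheaf on `S`: two pulled back sections agree near a point exactly if the sections
agree near its image, and every section of the inverse image is near every point a pulled back one.
-/

set_option autoImplicit false
set_option backward.isDefEq.respectTransparency false
set_option backward.isDefEq.respectTransparency.types false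
set_option linter.style.haveILetI false

universe u
open CategoryTheory CategoryTheory.Limits AlgebraicGeometry Opposite

noncomputable section

namespace Groth.Agent.EtConnFib

open EtPtsLib HensH0

variable {X S : Scheme.{u}} (f : X ⟶ S) (F : EtCoh.Ab S)

/-- The sheaf pulled back. -/
abbrev G : EtCoh.Ab X := (EtCoh.pull f).obj F

/-- Pulled back sections. -/
abbrev pb (U : S.Etale) (s : EtCoh.sect F U) : EtCoh.sect (G f F) ((EtCoh.bc f).obj U) :=
  ((EtCoh.pullPushAdj f).unit.app F).hom.app (op U) s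

theorem pb_map {U V : S.Etale} (g : V ⟶ U) (s : EtCoh.sect F U) :
    pb f F V (F.obj.map g.op s) = (G f F).obj.map ((EtCoh.bc f).map g).op (pb f F U s) :=
  naturality_apply ((EtCoh.pullPushAdj f).unit.app F) g s

theorem agree_pb_iff {U : S.Etale} (s t : EtCoh.sect F U) (z : ((EtCoh.bc f).obj U).left) :
    z ∈ agree (G f F).obj (pb f F U s) (pb f F U t) ↔ bcFst f U z ∈ agree F.obj s t := by
  obtain ⟨Ω, _, _, ζ, l, rfl⟩ := exists_geom ((EtCoh.bc f).obj U) z
  let a : Spec (CommRingCat.of Ω) ⟶ U.left := liftHom ζ l ≫ bcFst f U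
  have ha : a ≫ U.hom = ζ ≫ f := by
    show (liftHom ζ l ≫ pullback.fst U.hom f) ≫ U.hom = ζ ≫ f
    rw [Category.assoc, pullback.condition, ← Category.assoc]
    exact congrArg (· ≫ f) (liftHom_comp ζ l)
  let l' : (Scheme.pointSmallEtale (ζ ≫ f)).fiber.obj U := Over.homMk a ha
  have hl : liftBc f ζ U l' = l := fiber_bc_ext f ζ (liftHom_liftBc_fst f ζ U l')
  rw [← germ_eq_iff_mem_agree, ← Scheme.Hom.comp_apply]
  exact (germ_unit_eq_iff f ζ F l l' hl s t).trans (germ_eq_iff_mem_agree (ζ ≫ f) F.obj l' s t)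

/-- The map to the pulled back top object. -/
def toT (W : X.Etale) : W ⟶ (EtCoh.bc f).obj (EtCoh.top S) := (EtCore.bcTopIsTerminal f).from W

variable (t : EtCoh.sect (G f F) ((EtCoh.bc f).obj (EtCoh.top S)))

/-- The points near which a pulled back section is the given global one. -/
abbrev good (U : S.Etale) (σ : EtCoh.sect F U) : Set ((EtCoh.bc f).obj U).left :=
  agree (G f F).obj (pb f F U σ) ((G f F).obj.map (toT f _).op t)

theorem exists_near (x : X) : ∃ (U : S.Etale) (σ : EtCoh.sect F U) (w : ((EtCoh.bc f).obj U).left),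
    ((EtCoh.bc f).obj U).hom w = x ∧ w ∈ good f F t U σ := by
  let ζ := geomPtAlg x
  let l₀ := liftBc f ζ (EtCoh.top S) (topLift (ζ ≫ f))
  obtain ⟨a, ha⟩ := (bijective_unitStalk f ζ F).2 (germ ζ (G f F) l₀ t)
  obtain ⟨U, l, σ, rfl⟩ := (Scheme.pointSmallEtale (ζ ≫ f)).toPresheafFiber_jointly_surjective (P := F.obj) a
  refine ⟨U, σ, liftHom ζ (liftBc f ζ U l) default, ?_, ?_⟩
  · refine (Scheme.Hom.comp_apply _ _ _).symm.trans ?_
    exact (congrArg (fun k : Spec (CommRingCat.of (AlgebraicClosure (X.residueField x))) ⟶ X => k default)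
      (liftHom_comp ζ (liftBc f ζ U l))).trans (geomPtAlg_default x)
  · refine (germ_eq_iff_mem_agree ζ _ _ _ _).1 ?_
    refine Eq.trans ?_ (germ_map ζ (G f F) (toT f _) (liftBc f ζ U l) t).symm
    have h0 : (Scheme.pointSmallEtale ζ).fiber.map (toT f _) (liftBc f ζ U l) = l₀ := by
      refine fiber_bc_ext f ζ ?_
      have key : ∀ m : (Scheme.pointSmallEtale ζ).fiber.obj ((EtCoh.bc f).obj (EtCoh.top S)),
          liftHom ζ m ≫ bcFst f (EtCoh.top S) = ζ ≫ f := fun m => by
        have h := congrArg (· ≫ f) (liftHom_comp ζ m)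
        refine Eq.trans ?_ h
        show liftHom ζ m ≫ pullback.fst (𝟙 S) f = (liftHom ζ m ≫ pullback.snd (𝟙 S) f) ≫ f
        rw [Category.assoc, ← pullback.condition, Category.comp_id]
      exact (key _).trans (key _).symm
    rw [h0]
    refine Eq.trans ?_ ha
    exact (ConcreteCategory.congr_hom (toPresheafFiber_unitStalk f ζ F U l) σ).symm

theorem mem_good_map_iff {U V : S.Etale} (g : V ⟶ U) (σ : EtCoh.sect F U) (z : ((EtCoh.bc f).obj V).left) :
    z ∈ good f F t V (F.obj.map g.op σ) ↔ ((EtCoh.bc f).map g).left z ∈ good f F t U σ := by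
  have e : (G f F).obj.map (toT f ((EtCoh.bc f).obj V)).op t =
      (G f F).obj.map ((EtCoh.bc f).map g).op ((G f F).obj.map (toT f ((EtCoh.bc f).obj U)).op t) := by
    rw [← Functor.map_comp_apply, ← op_comp]
    rw [(EtCore.bcTopIsTerminal f).hom_ext ((EtCoh.bc f).map g ≫ toT f _) (toT f _)]
  show z ∈ agree _ _ _ ↔ _
  rw [pb_map, e]
  exact mem_agree_map_iff (G f F) ((EtCoh.bc f).map g) _ _ z

theorem agree_of_good {U : S.Etale} {σ σ' : EtCoh.sect F U} {z : ((EtCoh.bc f).obj U).left}
    (h : z ∈ good f F t U σ) (h' : z ∈ good f F t U σ') : bcFst f U z ∈ agree F.obj σ σ' :=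
  (agree_pb_iff f F σ σ' z).1 (agree_trans (G f F) h (agree_symm (G f F) h'))

theorem good_of_agree {U : S.Etale} {σ σ' : EtCoh.sect F U} {z : ((EtCoh.bc f).obj U).left}
    (h : z ∈ good f F t U σ) (h' : bcFst f U z ∈ agree F.obj σ σ') : z ∈ good f F t U σ' :=
  agree_trans (G f F) (agree_symm (G f F) ((agree_pb_iff f F σ σ' z).2 h')) h

end Groth.Agent.EtConnFib
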