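import Groth.Agent.EtConnFib.Main
import Groth.Agent.GeomIrred.Scheme

/-!
# Flat and field extension cases
-/

set_option autoImplicit false
set_option backward.isDefEq.respectTransparency false
set_option backward.isDefEq.respectTransparency.types false
set_option linter.style.haveILetI false

universe u
open CategoryTheory CategoryTheory.Limits AlgebraicGeometry Opposite

noncomputable section

namespace Groth.Agent.EtConnFib

variable {X S : Scheme.{u}} (f : X ⟶ S)

theorem surjective_of_connGeomFibres (hc : HasConnGeomFibres f) : Surjective f := ⟨fun s => by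
  haveI := hc _ (EtPtsLib.geomPtAlg s)
  obtain ⟨p⟩ : Nonempty ↥(pullback f (EtPtsLib.geomPtAlg s)) := inferInstance
  refine ⟨pullback.fst f (EtPtsLib.geomPtAlg s) p, ?_⟩
  rw [← Scheme.Hom.comp_apply, pullback.condition, Scheme.Hom.comp_apply]
  exact (congrArg (fun q => EtPtsLib.geomPtAlg s q) (Subsingleton.elim _ default)).trans (EtPtsLib.geomPtAlg_default s)⟩

theorem isUnivSubmersive_of_flat [Flat f] [QuasiCompact f] [Surjective f] : IsUnivSubmersive f := fun S' g => by
  haveI : Flat (pullback.snd f g) := MorphismProperty.pullback_snd _ _ inferInstance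
  haveI : QuasiCompact (pullback.snd f g) := MorphismProperty.pullback_snd _ _ inferInstance
  haveI : Surjective (pullback.snd f g) := MorphismProperty.pullback_snd _ _ inferInstance
  exact Flat.isQuotientMap_of_surjective _

theorem bijective_unit_top_of_flat [Flat f] [QuasiCompact f] (hc : HasConnGeomFibres f) (F : EtCoh.Ab S) :
    Function.Bijective (((EtCoh.pullPushAdj f).unit.app F).hom.app (op (EtCoh.top S))) :=
  haveI := surjective_of_connGeomFibres f hc
  bijective_unit_top (isUnivSubmersive_of_flat f) hc F

theorem bijective_unit_top_field {k K : Type u} [Field k] [IsSepClosed k] [Field K] [Algebra k K]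
    (a : S ⟶ Spec (CommRingCat.of k)) (F : EtCoh.Ab S) :
    Function.Bijective (((EtCoh.pullPushAdj
      (pullback.fst a (Spec.map (CommRingCat.ofHom (algebraMap k K))))).unit.app F).hom.app
        (op (EtCoh.top S))) := by
  let g := Spec.map (CommRingCat.ofHom (algebraMap k K))
  haveI : ConnectedSpace ↥(Spec (CommRingCat.of K)) := inferInstanceAs (ConnectedSpace (PrimeSpectrum K))
  haveI : GeometricallyConnected g := GeomIrred.geometricallyConnected_of_connectedSpace g
  haveI : Flat g := by
    rw [HasRingHomProperty.Spec_iff (P := @Flat)]
    exact RingHom.flat_algebraMap_iff.2 inferInstance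
  haveI : QuasiCompact g := inferInstance
  haveI : Flat (pullback.fst a g) := MorphismProperty.pullback_fst _ _ inferInstance
  haveI : QuasiCompact (pullback.fst a g) := MorphismProperty.pullback_fst _ _ inferInstance
  refine bijective_unit_top_of_flat (pullback.fst a g) (fun Ω _ _ s => ?_) F
  exact GeometricallyConnected.geometrically_connectedSpace _ _ _ (IsPullback.of_hasPullback (pullback.fst a g) s)

end Groth.Agent.EtConnFib
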