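import Groth.Agent.EtConnFib.Agree
import Groth.Agent.EtPtsLib.FiniteStalk
import Groth.Agent.ASp.EtLocal

/-!
# Global sections along morphisms with connected geometric fibres

For a universally submersive morphism with connected geometric fibres, global sections of an étale
sheaf on the base are those of its inverse image: the locus where a pulled back section equals the
given one is a union of fibres, hence the preimage of an open.
-/

set_option autoImplicit false
set_option backward.isDefEq.respectTransparency false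
set_option backward.isDefEq.respectTransparency.types false
set_option linter.style.haveILetI false

universe u
open CategoryTheory CategoryTheory.Limits AlgebraicGeometry Opposite

noncomputable section

namespace Groth.Agent.EtConnFib

open EtPtsLib HensH0

variable {X S : Scheme.{u}} (f : X ⟶ S)

/-- Every base change is a quotient map. -/
def IsUnivSubmersive : Prop :=
  ∀ (S' : Scheme.{u}) (g : S' ⟶ S), Topology.IsQuotientMap (pullback.snd f g).base

/-- All geometric fibres are connected. -/
def HasConnGeomFibres : Prop :=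
  ∀ (Ω : Type u) [Field Ω] [IsAlgClosed Ω] (s : Spec (CommRingCat.of Ω) ⟶ S), ConnectedSpace ↥(pullback f s)

variable {f}

theorem isQuotientMap_bcFst (hsub : IsUnivSubmersive f) (U : S.Etale) :
    Topology.IsQuotientMap (bcFst f U) := by
  have h := (hsub U.left U.hom).comp (pullbackSymmetry U.hom f).hom.homeomorph.isQuotientMap
  have e : (bcFst f U : ((EtCoh.bc f).obj U).left ⟶ U.left) =
      (pullbackSymmetry U.hom f).hom ≫ pullback.snd f U.hom := (pullbackSymmetry_hom_comp_snd _ _).symm
  rw [e]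
  exact h

theorem isConnected_fibre_bcFst (hc : HasConnGeomFibres f) (U : S.Etale) (v : U.left) :
    _root_.IsConnected ((bcFst f U) ⁻¹' {v}) := by
  let a := geomPtAlg v
  haveI := hc _ (a ≫ U.hom)
  let k : pullback f (a ≫ U.hom) ⟶ pullback U.hom f :=
    pullback.lift (pullback.snd _ _ ≫ a) (pullback.fst _ _) (by rw [Category.assoc, pullback.condition])
  have hk : Set.range k = (pullback.fst U.hom f) ⁻¹' {v} := by
    ext z
    refine ⟨?_, fun hz => ?_⟩
    · rintro ⟨p, rfl⟩
      rw [Set.mem_preimage, Set.mem_singleton_iff, ← Scheme.Hom.comp_apply, pullback.lift_fst,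
        Scheme.Hom.comp_apply]
      exact (congrArg (fun q => a q) (Subsingleton.elim _ default)).trans (geomPtAlg_default v)
    · have hP : IsPullback k (pullback.snd f (a ≫ U.hom)) (pullback.fst U.hom f) a := by
        refine IsPullback.of_right ?_ (pullback.lift_fst _ _ _) (IsPullback.of_hasPullback U.hom f).flip
        rw [pullback.lift_snd]
        exact IsPullback.of_hasPullback f (a ≫ U.hom)
      obtain ⟨w, hw, -⟩ := Scheme.Pullback.exists_preimage_pullback (f := pullback.fst U.hom f) (g := a) z default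
        (hz.trans (geomPtAlg_default v).symm)
      refine ⟨hP.isoPullback.inv w, ?_⟩
      rw [← Scheme.Hom.comp_apply, IsPullback.isoPullback_inv_fst, hw]
  show _root_.IsConnected ((pullback.fst U.hom f) ⁻¹' {v})
  rw [← hk]
  exact isConnected_range k.continuous

variable (F : EtCoh.Ab S) (t : EtCoh.sect (G f F) ((EtCoh.bc f).obj (EtCoh.top S)))

/-- A fibre meeting the good locus is contained in it. -/
theorem good_saturated (hc : HasConnGeomFibres f) (U : S.Etale) (σ : EtCoh.sect F U) (v : U.left)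
    (h : ∃ z, bcFst f U z = v ∧ z ∈ good f F t U σ) :
    ∀ z, bcFst f U z = v → z ∈ good f F t U σ := by
  let Fv : Set ((EtCoh.bc f).obj U).left := bcFst f U ⁻¹' {v}
  let O := good f F t U σ
  have key : ∀ z, z ∈ Fv → z ∉ O → ∃ N : Set ((EtCoh.bc f).obj U).left,
      IsOpen N ∧ z ∈ N ∧ ∀ z', z' ∈ N → z' ∈ Fv → z' ∉ O := by
    intro z hzv hz
    obtain ⟨U', σ', w', hw', hgood⟩ := exists_near f F t (((EtCoh.bc f).obj U).hom z)
    let P := prod2 U U'
    let r := ((EtCoh.bc f).map (fst2 U U')).left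
    let r' := ((EtCoh.bc f).map (snd2 U U')).left
    obtain ⟨p, hp, hp'⟩ : ∃ p, r p = z ∧ r' p = w' := by
      obtain ⟨q, hq, hq'⟩ := Scheme.Pullback.exists_preimage_pullback
        (f := ((EtCoh.bc f).obj U).hom) (g := ((EtCoh.bc f).obj U').hom) z w' hw'.symm
      let Q := pullback ((EtCoh.bc f).obj U).hom ((EtCoh.bc f).obj U').hom
      let c : Q ⟶ P.left := pullback.lift (pullback.fst _ _ ≫ bcFst f U) (pullback.snd _ _ ≫ bcFst f U') (by
        rw [Category.assoc, Category.assoc]
        show pullback.fst _ _ ≫ pullback.fst U.hom f ≫ U.hom = pullback.snd _ _ ≫ pullback.fst U'.hom f ≫ U'.hom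
        rw [pullback.condition, pullback.condition]
        exact ((Category.assoc _ _ _).symm.trans (congrArg (· ≫ f) pullback.condition)).trans (Category.assoc _ _ _))
      have hc' : c ≫ P.hom = (pullback.fst _ _ ≫ ((EtCoh.bc f).obj U).hom) ≫ f := by
        show c ≫ pullback.fst U.hom U'.hom ≫ U.hom = _
        rw [pullback.lift_fst_assoc, Category.assoc, Category.assoc]
        exact congrArg (_ ≫ ·) pullback.condition
      let d : Q ⟶ ((EtCoh.bc f).obj P).left := pullback.lift c (pullback.fst _ _ ≫ ((EtCoh.bc f).obj U).hom) hc'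
      have d1 : d ≫ r = pullback.fst _ _ := by
        refine pullback.hom_ext ?_ ?_
        · refine (Category.assoc _ _ _).trans ((congrArg (d ≫ ·) (bcFst_map f (fst2 U U'))).trans ?_)
          refine (Category.assoc _ _ _).symm.trans ((congrArg (· ≫ (fst2 U U').left) (pullback.lift_fst _ _ _)).trans ?_)
          exact pullback.lift_fst _ _ _
        · refine (Category.assoc _ _ _).trans ((congrArg (d ≫ ·) (MorphismProperty.Over.w ((EtCoh.bc f).map (fst2 U U')))).trans ?_)
          exact pullback.lift_snd _ _ _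
      have d2 : d ≫ r' = pullback.snd _ _ := by
        refine pullback.hom_ext ?_ ?_
        · refine (Category.assoc _ _ _).trans ((congrArg (d ≫ ·) (bcFst_map f (snd2 U U'))).trans ?_)
          refine (Category.assoc _ _ _).symm.trans ((congrArg (· ≫ (snd2 U U').left) (pullback.lift_fst _ _ _)).trans ?_)
          exact pullback.lift_snd _ _ _
        · refine (Category.assoc _ _ _).trans ((congrArg (d ≫ ·) (MorphismProperty.Over.w ((EtCoh.bc f).map (snd2 U U')))).trans ?_)
          exact (pullback.lift_snd _ _ _).trans pullback.condition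
      exact ⟨d q, (congr($d1 q)).trans hq, (congr($d2 q)).trans hq'⟩
    let s₁ := F.obj.map (fst2 U U').op σ
    let s₂ := F.obj.map (snd2 U U').op σ'
    let E := agree F.obj s₁ s₂
    have g2 : p ∈ good f F t P s₂ := (mem_good_map_iff f F t _ σ' p).2 (hp' ▸ hgood)
    have hE : bcFst f P p ∉ E := fun hE => hz (hp ▸ (mem_good_map_iff f F t _ σ p).1
      (good_of_agree f F t g2 (agree_symm F hE)))
    haveI : Etale (fst2 U U').left := etale_left (fst2 U U')
    haveI : LocallyQuasiFinite (fst2 U U').left := ASp.IsEtLocal.etale_le (P := @LocallyQuasiFinite) _ ‹_›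
    have hd := (fst2 U U').left.isDiscrete_preimage_singleton v
    have hmem : ∀ q, r q ∈ Fv → bcFst f P q ∈ (fst2 U U').left ⁻¹' {v} := fun q hq =>
      (congr($(bcFst_map f (fst2 U U')) q)).symm.trans hq
    obtain ⟨D, hD, hDv⟩ : ∃ D : Set P.left, IsOpen D ∧ D ∩ (fst2 U U').left ⁻¹' {v} = {bcFst f P p} := by
      haveI : DiscreteTopology ↥((fst2 U U').left ⁻¹' {v}) := hd.to_subtype
      obtain ⟨D, hD, e⟩ := isOpen_induced_iff.1
        (isOpen_discrete ({⟨bcFst f P p, hmem p (hp.symm ▸ hzv)⟩} : Set ↥((fst2 U U').left ⁻¹' {v})))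
      refine ⟨D, hD, Set.ext fun q => ⟨fun ⟨hq, hqv⟩ => ?_, ?_⟩⟩
      · exact congrArg Subtype.val ((Set.ext_iff.1 e ⟨q, hqv⟩).1 hq)
      · rintro rfl
        exact ⟨(Set.ext_iff.1 e ⟨_, _⟩).2 rfl, hmem p (hp.symm ▸ hzv)⟩
    haveI : Etale r := etale_left ((EtCoh.bc f).map (fst2 U U'))
    refine ⟨r '' (good f F t P s₂ ∩ bcFst f P ⁻¹' D), ?_, ⟨p, ⟨g2, ?_⟩, hp⟩, ?_⟩
    · exact r.isOpenMap _ ((isOpen_agree _ _ _).inter (hD.preimage (bcFst f P).continuous))
    · exact (hDv.ge rfl : bcFst f P p ∈ D ∩ _).1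
    · rintro _ ⟨q, ⟨hq, hqD⟩, rfl⟩ hqv hqO
      have e : bcFst f P q = bcFst f P p := hDv.le ⟨hqD, hmem q hqv⟩
      exact hE (e ▸ agree_of_good f F t ((mem_good_map_iff f F t _ σ q).2 hqO) hq)
  intro z hzv
  by_contra hz
  obtain ⟨z₁, hz₁v, hz₁⟩ := h
  choose N hN hzN hNO using fun (y : {y // y ∈ Fv ∧ y ∉ O}) => key y.1 y.2.1 y.2.2
  obtain ⟨y, hyv, hyO, hyN⟩ := (isConnected_fibre_bcFst hc U v).isPreconnected O (⋃ y, N y) (isOpen_agree _ _ _)
    (isOpen_iUnion hN) (fun y hy => or_iff_not_imp_left.2 fun hyO => Set.mem_iUnion.2 ⟨⟨y, hy, hyO⟩, hzN _⟩)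
    ⟨z₁, hz₁v, hz₁⟩ ⟨z, hzv, Set.mem_iUnion.2 ⟨⟨z, hzv, hz⟩, hzN _⟩⟩
  obtain ⟨a, ha⟩ := Set.mem_iUnion.1 hyN
  exact hNO a y ha hyv hyO

theorem isOpen_image_good (hsub : IsUnivSubmersive f) (hc : HasConnGeomFibres f) (U : S.Etale)
    (σ : EtCoh.sect F U) : IsOpen (bcFst f U '' good f F t U σ) := by
  rw [← (isQuotientMap_bcFst hsub U).isOpen_preimage]
  convert isOpen_agree (G f F).obj (pb f F U σ) ((G f F).obj.map (toT f _).op t) using 1
  refine Set.ext fun z => ⟨?_, fun h => ⟨z, h, rfl⟩⟩
  rintro ⟨z', h', e⟩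
  exact good_saturated F t hc U σ _ ⟨z', e, h'⟩ z rfl

/-- Global sections do not change along universally submersive morphisms with connected geometric fibres. -/
theorem bijective_unit_top (hsub : IsUnivSubmersive f) (hc : HasConnGeomFibres f) (F : EtCoh.Ab S) :
    Function.Bijective (((EtCoh.pullPushAdj f).unit.app F).hom.app (op (EtCoh.top S))) := by
  have hsurj : ∀ U : S.Etale, Function.Surjective (bcFst f U) := fun U => (isQuotientMap_bcFst hsub U).surjective
  refine ⟨fun s s' h => eq_of_agree F fun p => ?_, fun t => ?_⟩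
  · obtain ⟨z, rfl⟩ := hsurj _ p
    refine (agree_pb_iff f F s s' z).1 ?_
    rw [show pb f F _ s = pb f F _ s' from h]
    obtain ⟨Ω, _, _, ζ, l, rfl⟩ := exists_geom ((EtCoh.bc f).obj (EtCoh.top S)) z
    exact (germ_eq_iff_mem_agree ζ _ l _ _).1 rfl
  · choose U σ w hw hgood using exists_near f F t
    let D : X → S.Etale := fun x => EtPtsLib.openSub (U x) ⟨_, isOpen_image_good F t hsub hc (U x) (σ x)⟩
    let τ : ∀ x, EtCoh.sect F (D x) := fun x => F.obj.map (EtPtsLib.openIncl (U x) _).op (σ x)
    have hτ : ∀ (x : X) (z : ((EtCoh.bc f).obj (D x)).left), z ∈ good f F t (D x) (τ x) := fun x z => by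
      refine (mem_good_map_iff f F t _ (σ x) z).2 ?_
      obtain ⟨z', hz', e⟩ := (bcFst f (D x) z).2
      refine good_saturated F t hc (U x) (σ x) _ ⟨z', e, hz'⟩ _ ?_
      exact congr($(bcFst_map f (EtPtsLib.openIncl (U x) _)) z)
    let π : ∀ x, D x ⟶ EtCoh.top S := fun x => (EtCore.topIsTerminal S).from _
    have hπ : Sieve.ofArrows D π ∈ S.smallEtaleTopology (EtCoh.top S) := by
      rw [Scheme.ofArrows_mem_smallEtaleTopology_iff]
      refine Set.eq_univ_iff_forall.2 fun s => ?_
      obtain ⟨z, rfl⟩ := hsurj (EtCoh.top S) s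
      let x := ((EtCoh.bc f).obj (EtCoh.top S)).hom z
      refine Set.mem_iUnion.2 ⟨x, ⟨bcFst f (U x) (w x), ⟨_, hgood x, rfl⟩⟩, ?_⟩
      show (π x).left _ = _
      rw [show (π x).left = (D x).hom from (Category.comp_id _).symm.trans (MorphismProperty.Over.w (π x))]
      show (U x).hom (bcFst f (U x) (w x)) = (pullback.fst (𝟙 S) f) z
      have e1 : pullback.fst (U x).hom f ≫ (U x).hom = pullback.snd (U x).hom f ≫ f := pullback.condition
      refine (Scheme.Hom.comp_apply _ _ _).symm.trans ((congr($e1 (w x))).trans ?_)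
      have e2 : pullback.fst (𝟙 S) f = pullback.snd (𝟙 S) f ≫ f :=
        (Category.comp_id _).symm.trans pullback.condition
      rw [e2, Scheme.Hom.comp_apply, Scheme.Hom.comp_apply]
      exact congrArg (fun q => f q) (hw x)
    have hFs := ((isSheaf_iff_isSheaf_of_type _ _).1
      ((sheafCompose S.smallEtaleTopology (forget AddCommGrpCat.{u + 1})).obj F).property) _ hπ
    rw [Sieve.ofArrows, ← Presieve.isSheafFor_iff_generate, Presieve.isSheafFor_arrows_iff] at hFs
    obtain ⟨s, hs, -⟩ := hFs τ fun x y W a b _ => eq_of_agree F fun p => by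
      obtain ⟨z, rfl⟩ := hsurj W p
      exact agree_of_good f F t ((mem_good_map_iff f F t a (τ x) z).2 (hτ x _))
        ((mem_good_map_iff f F t b (τ y) z).2 (hτ y _))
    refine ⟨s, eq_of_agree (G f F) fun z => ?_⟩
    obtain ⟨x, d, hd⟩ : ∃ x, ∃ d, (π x).left d = bcFst f (EtCoh.top S) z := by
      have := (Scheme.ofArrows_mem_smallEtaleTopology_iff π).1 hπ
      obtain ⟨x, hx⟩ := Set.mem_iUnion.1 (this.ge (Set.mem_univ (bcFst f (EtCoh.top S) z)))
      exact ⟨x, hx⟩
    obtain ⟨z', hz'⟩ : ∃ z', ((EtCoh.bc f).map (π x)).left z' = z := by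
      have hP : IsPullback ((EtCoh.bc f).map (π x)).left (bcFst f (D x)) (bcFst f (EtCoh.top S)) (π x).left := by
        refine IsPullback.of_right ?_ (bcFst_map f (π x)) (IsPullback.of_hasPullback (EtCoh.top S).hom f).flip
        rw [MorphismProperty.Over.w (π x), show ((EtCoh.bc f).map (π x)).left ≫ pullback.snd (EtCoh.top S).hom f =
          pullback.snd (D x).hom f from MorphismProperty.Over.w ((EtCoh.bc f).map (π x))]
        exact (IsPullback.of_hasPullback (D x).hom f).flip
      obtain ⟨q, hq, -⟩ := Scheme.Pullback.exists_preimage_pullback (f := bcFst f (EtCoh.top S)) (g := (π x).left) z d hd.symm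
      refine ⟨hP.isoPullback.inv q, ?_⟩
      rw [← Scheme.Hom.comp_apply, IsPullback.isoPullback_inv_fst, hq]
    have e : toT f ((EtCoh.bc f).obj (EtCoh.top S)) = 𝟙 _ := (EtCore.bcTopIsTerminal f).hom_ext _ _
    have h1 : z' ∈ good f F t (D x) (F.obj.map (π x).op s) := by
      rw [show F.obj.map (π x).op s = τ x from hs x]
      exact hτ x z'
    have h2 := (mem_good_map_iff f F t (π x) s z').1 h1
    rw [hz'] at h2
    rw [good, e, op_id, CategoryTheory.Functor.map_id] at h2
    exact h2

end Groth.Agent.EtConnFib
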